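import Mathlib
import Cfsg.Agent.H93.CI.Deriv
import Cfsg.Agent.H93.ON.Loop1.Data

/-!
A derivation that a word fixes the first coset (generated data).
-/

set_option autoImplicit false
set_option maxRecDepth 100000
set_option linter.all false
set_option Elab.async false

namespace H93
namespace ON
namespace Loop1

open CosetI

noncomputable section

def st0 : List Step := [(30,[],[]),(31,[],[]),(32,[],[]),(33,[],[]),(35,[],[]),(0,[],[]),(23,[10],[1,9]),(0,[],[]),(0,[],[]),(0,[],[]),(25,[13,14,16,18],[5,13,14,16,18]),(0,[],[]),(0,[],[]),(0,[],[]),(26,[13,22,24,26],[7,13,22,24,26]),(0,[],[]),(0,[],[]),(0,[],[]),(0,[],[]),(0,[],[]),(0,[],[]),(28,[5,13,22,30,32,34,36,38,40],[10]),(0,[],[]),(0,[],[]),(0,[],[]),(0,[],[]),(0,[],[]),(0,[],[]),(0,[],[]),(0,[],[]),(0,[],[]),(0,[],[]),(0,[],[]),(27,[13,14,44,46,48,50,52,54,56,58,60,62,64],[3,5,7,10,43,41]),(0,[],[]),(0,[],[]),(0,[],[]),(4,[22,72],[68]),(0,[],[])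,(5,[14,76],[68]),(0,[],[]),(0,[],[]),(10,[14,82],[43]),(0,[],[]),(12,[70,86],[43]),(0,[],[]),(16,[70,90],[22]),(0,[],[]),(19,[70,94],[14]),(23,[12,10,70,80],[]),(1,[98],[]),(1,[101,81],[]),(1,[69,102],[]),(1,[105],[]),(1,[107,86],[]),(1,[107,90],[]),(1,[74,110],[]),(1,[107,94],[]),(1,[78,114],[]),(1,[107,71],[]),(1,[113],[]),(1,[121,92],[]),(1,[117],[]),(1,[125,96],[]),(0,[],[]),(0,[],[]),(3,[43,128,130],[68,108]),(0,[],[]),(9,[22,30,134],[43,41]),(0,[],[]),(0,[],[]),(0,[],[]),(0,[],[]),(24,[22,138,140,142,144],[68,118,14,44]),(0,[],[]),(25,[11,7,13,14,44,147,148],[22,24]),(0,[],[]),(26,[11,5,13,22,138,140,152],[14,16]),(0,[],[]),(28,[22,24,26,156],[12,3,5,10,22,30]),(23,[],[76,126,16]),(0,[],[]),(0,[],[]),(9,[44,46,162,164],[82]),(0,[],[]),(0,[],[]),(0,[],[]),(0,[],[]),(0,[],[]),(0,[],[]),(0,[],[]),(0,[],[]),(0,[],[]),(0,[],[]),(0,[],[]),(0,[],[]),(0,[],[]),(0,[],[]),(27,[16,18,21,168,170,172,174,176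,178,180,182,184,186,188,190,192,194],[82,167]),(25,[161,15,11,7,5,7,10,14,160,155],[]),(1,[198],[]),(1,[201,153],[]),(1,[160,202],[]),(1,[205],[]),(1,[207,141],[]),(1,[45,208],[]),(1,[211],[]),(1,[213,139],[]),(1,[146,214],[]),(1,[216],[]),(1,[219,146],[]),(1,[219,148],[]),(0,[],[]),(10,[220,46],[30]),(0,[],[]),(12,[123,228],[30]),(23,[222],[72,122,24]),(1,[232],[]),(1,[235,150],[]),(1,[235,223],[]),(0,[],[]),(0,[],[]),(3,[30,240,242],[72,228]),(0,[],[]),(0,[],[]),(0,[],[]),(0,[],[]),(28,[23,11,5,3,13,43,41,250,252],[239]),(0,[],[]),(0,[],[]),(0,[],[]),(0,[],[]),(0,[],[]),(0,[],[]),(0,[],[]),(0,[],[]),(0,[],[]),(27,[24,237,26,156,158,227,162,164,256,258,260,262,264,266,268,270,272],[30,134]),(0,[],[]),(0,[],[]),(0,[],[]),(4,[26,280],[276]),(0,[],[]),(0,[],[]),(16,[278,286],[26]),(23,[25,239,278,284],[]),(1,[290],[]),(1,[293,285],[]),(1,[277,294],[]),(1,[297],[]),(1,[299,286],[]),(1,[282,300],[]),(1,[3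03],[]),(1,[305,288],[]),(0,[],[]),(0,[],[]),(0,[],[]),(0,[],[]),(0,[],[]),(28,[26,246,248,310,312,314,316],[25,30,134]),(10,[29,156],[156]),(0,[],[]),(12,[307,322],[156]),(0,[],[]),(0,[],[]),(3,[156,326,328],[280,322]),(0,[],[]),(0,[],[]),(4,[134,334],[240]),(7,[231,245],[240]),(0,[],[]),(16,[231,340],[134]),(23,[159],[240,339]),(0,[],[]),(0,[],[]),(0,[],[]),(0,[],[]),(0,[],[]),(24,[134,275,346,348,350,352,354],[240,339]),(0,[],[]),(0,[],[]),(0,[],[]),(0,[],[]),(0,[],[]),(0,[],[]),(0,[],[]),(0,[],[]),(0,[],[]),(14,[227,162,366,368,370,372,374],[134,275,346,348,350,352,354,356]),(0,[],[]),(0,[],[]),(0,[],[]),(4,[360,382],[378]),(0,[],[]),(5,[224,386],[378]),(0,[],[]),(7,[380,390],[378]),(0,[],[]),(12,[380,394],[34]),(0,[],[]),(16,[380,398],[360]),(23,[33,159,325,331],[]),(1,[402],[]),(1,[405,330],[]),(1,[379,406],[]),(1,[405,329],[]),(1,[35,410],[]),(1,[408],[]),(1,[415,379],[]),(1,[415,385],[]),(1,[41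5,389],[]),(1,[415,393],[]),(1,[325,422],[]),(1,[413],[]),(1,[427,327],[]),(1,[425],[]),(1,[431,391],[]),(1,[428,432],[]),(1,[435],[]),(1,[437,394],[]),(1,[34,438],[]),(1,[437,398],[]),(1,[37,442],[]),(1,[441],[]),(1,[447,396],[]),(1,[445],[]),(1,[451,400],[]),(0,[],[]),(28,[360,362,364],[33,31,23,12,5,3,10,43]),(1,[456],[]),(1,[459,365],[]),(1,[40,460],[]),(1,[463],[]),(1,[465,363],[]),(1,[38,466],[]),(1,[469],[]),(1,[471,382],[]),(1,[471,361],[]),(1,[36,474],[]),(1,[471,453],[]),(1,[476],[]),(1,[481,428],[]),(1,[416,482],[]),(1,[481,35],[]),(1,[481,36],[]),(1,[481,449],[]),(1,[484],[]),(1,[493,416],[]),(1,[493,418],[]),(1,[309,496],[])]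
theorem ok0 : data.stepsOK st0 0 = true := by decide +kernel
def st1 : List Step := [(1,[493,420],[]),(1,[320,500],[]),(1,[499],[]),(1,[505,473],[]),(1,[503],[]),(1,[509,387],[]),(1,[495,510],[]),(1,[513],[]),(1,[515,358],[]),(1,[455,516],[]),(1,[518],[]),(1,[521,455],[]),(0,[],[]),(0,[],[]),(0,[],[]),(0,[],[]),(4,[40,128],[528]),(0,[],[]),(7,[530,534],[528]),(12,[530],[137,343]),(23,[39,524],[528,537]),(1,[541],[]),(1,[543,535],[]),(1,[543,536],[]),(0,[],[]),(0,[],[]),(0,[],[]),(24,[40,85,167,197,548,550,552],[528,547]),(0,[],[]),(0,[],[]),(0,[],[]),(0,[],[]),(0,[],[]),(14,[67,526,556,558,560,562,564],[40,85,167,197,548,550,552,554]),(7,[89,133],[128]),(24,[41,67,526,556,558,560,562,564],[128,569]),(1,[570],[]),(1,[573,566],[]),(23,[],[132,88,332]),(24,[135,227,162,366,368,370,372,374],[334]),(23,[344],[494,491,523]),(1,[581],[]),(1,[583,522],[]),(4,[340],[245,377]),(23,[251,39,479,507],[]),(1,[588],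[]),(1,[591,309],[]),(1,[253,592],[]),(1,[594],[]),(1,[597,254],[]),(1,[156,598],[]),(1,[600],[]),(1,[603,246],[]),(1,[239,604],[]),(1,[607],[]),(1,[609,248],[]),(1,[22,610],[]),(1,[613],[]),(1,[615,310],[]),(1,[42,616],[]),(1,[619],[]),(1,[621,312],[]),(1,[333,622],[]),(1,[624],[]),(1,[627,577],[]),(1,[627,333],[]),(28,[574,525,489,487,585,243,337],[629,314,316]),(23,[319,633,579,587],[]),(1,[634],[]),(1,[637,539],[]),(1,[137,638],[]),(1,[641],[]),(1,[643,545],[]),(1,[529,644],[]),(1,[646],[]),(1,[649,533],[]),(1,[574,650],[]),(1,[652],[]),(1,[655,629],[])]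
theorem ok1 : data.stepsOK st1 250 = true := by decide +kernel

end

end Loop1
end ON
end H93
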